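import Cfsg.Agent.Lib.Spor.ON.Base
import Cfsg.Agent.Lib.Spor.ONOut.Data

/-!
Tools for the outer automorphisms of the presented O'Nan group: regular orbits of the stabiliser of
a point in `⟨a, …, f⟩`, and the exclusion of elements conjugating one word to another.
-/

set_option autoImplicit false
set_option maxRecDepth 100000

namespace CfsgLib.Spor.ONOut

open CfsgLib.PresCert CfsgLib.Spor.ON Cfsg.Spor Equiv

/-- the element moving the points as the word does -/
noncomputable def El (w : List Nat) : Cfsg.Spor.ON := (evalW gen w)⁻¹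

theorem El_nil : El [] = 1 := by simp [El, evalW]

theorem El_append (v w : List Nat) : El (v ++ w) = El w * El v := by
  rw [El, El, El, evalW_append, mul_inv_rev]

/-- the letters of a word are among the first eight -/
noncomputable def lt8 (w : List Nat) : Bool := w.all fun x => Nat.blt x (nat_lit 8)

/-- the letters of a word are among the six involutions -/
noncomputable def lt6 (w : List Nat) : Bool := w.all fun x => Nat.blt x (nat_lit 6)

theorem lt8_iff {w : List Nat} : lt8 w = true ↔ ∀ x ∈ w, x < 8 := by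
  simp [lt8, List.all_eq_true]

theorem lt6_iff {w : List Nat} : lt6 w = true ↔ ∀ x ∈ w, x < 6 := by
  simp [lt6, List.all_eq_true]

theorem lt8_of_lt6 {w : List Nat} (h : lt6 w = true) : lt8 w = true :=
  lt8_iff.2 fun x hx => (lt6_iff.1 h x hx).trans (by omega)

theorem lt8_append {v w : List Nat} : lt8 (v ++ w) = true ↔ lt8 v = true ∧ lt8 w = true := by
  simp [lt8, List.all_append]

theorem El_mem {w : List Nat} (h : lt6 w = true) : El w ∈ H6 :=
  H6.inv_mem (word_mem_H (lt6_iff.1 h))

theorem π_El {w : List Nat} (h : lt8 w = true) (c : Fin 122760) :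
    ((π (El w) c : Fin 122760) : Nat) = main.app w c := by
  rw [El, map_inv]
  exact π_word w (lt8_iff.1 h) c

/-- two words move the three base points alike -/
noncomputable def sameB (v w : List Nat) : Bool :=
  lt8 v && lt8 w && Nat.beq (main.app v (nat_lit 0)) (main.app w (nat_lit 0)) &&
    Nat.beq (main.app v (nat_lit 15)) (main.app w (nat_lit 15)) &&
    Nat.beq (main.app v (nat_lit 71333)) (main.app w (nat_lit 71333))

theorem eq_of_same {v w : List Nat} (h : sameB v w = true) : El v = El w := by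
  simp only [sameB, Bool.and_eq_true] at h
  obtain ⟨⟨⟨⟨hv, hw⟩, e0⟩, e1⟩, e2⟩ := h
  have key : ∀ p : Fin 122760, Nat.beq (main.app v p) (main.app w p) = true →
      π (El v) p = π (El w) p := fun p e => Fin.ext (by
    rw [π_El hv, π_El hw]; exact Nat.eq_of_beq_eq_true e)
  have hf : ∀ p : Fin 122760, π (El v) p = π (El w) p → π ((El w)⁻¹ * El v) p = p := by
    intro p e
    rw [map_mul, map_inv, Perm.mul_apply, e, Perm.inv_def, Equiv.symm_apply_apply]
  exact (inv_mul_eq_one.1 (eq_one_of_fix _ (hf _ (key i₀ e0)) (hf _ (key p₁ e1))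
    (hf _ (key p₂ e2)))).symm

/-- the inverse word -/
noncomputable def invW (w : List Nat) : List Nat :=
  w.reverse.map fun x => [0, 1, 2, 3, 4, 5, 7, 6].getD x (nat_lit 0)

theorem El_invW {w : List Nat} (h : lt8 w = true) : El (invW w) = (El w)⁻¹ := by
  induction w with
  | nil => simp [invW, El_nil]
  | cons x w ih =>
    have hx : x < 8 := lt8_iff.1 h x (List.mem_cons_self ..)
    have e : invW (x :: w) = invW w ++ [[0, 1, 2, 3, 4, 5, 7, 6].getD x 0] := by simp [invW]
    rw [e, El_append, ih (lt8_iff.2 fun y hy => lt8_iff.1 h y (List.mem_cons_of_mem _ hy)),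
      show x :: w = [x] ++ w from rfl, El_append, mul_inv_rev]
    congr 1
    simp only [El, evalW, List.map_cons, List.map_nil, List.prod_cons, List.prod_nil, mul_one,
      inv_inv]
    rw [show lets gen ([0, 1, 2, 3, 4, 5, 7, 6].getD x 0) = (lets gen x)⁻¹ from letG_inv x hx,
      inv_inv]

theorem lt8_invW {w : List Nat} (h : lt8 w = true) : lt8 (invW w) = true := by
  refine lt8_iff.2 fun x hx => ?_
  simp only [invW, List.mem_map, List.mem_reverse] at hx
  obtain ⟨y, hy, rfl⟩ := hx
  have := lt8_iff.1 h y hy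
  interval_cases y <;> decide

/-! ### the second orbit of the six involutions -/

theorem conn (j : ℕ) (hj : j < 5586) :
    ∃ h ∈ H6, π h p₁ = ordF ⟨110790 + j, by omega⟩ := by
  induction j using Nat.strong_induction_on with
  | _ j ih =>
    obtain ⟨-, -, h | ⟨a1, a2, a3, a4⟩⟩ := orbit_3 j hj
    · have : j = 0 := by omega
      subst this
      refine ⟨1, one_mem _, ?_⟩
      rw [map_one, Perm.one_apply]
      exact Fin.ext (show 15 = ordC (110790 + 0) by decide +kernel)
    · obtain ⟨s, hs, e⟩ := stp_mem a3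
      obtain ⟨k, hk, ek⟩ := ih (parK (110790 + j) - 110790) (by omega) (by omega)
      refine ⟨s * k, mul_mem hs hk, ?_⟩
      rw [map_mul, Perm.mul_apply, ek, e]
      refine Fin.ext ((stp_val (by omega) _).trans ?_)
      show main.dest (Table.slot (ordC (110790 + (parK (110790 + j) - 110790))) _) = _
      rw [Nat.add_sub_cancel' a1]
      exact a4

/-- the elements of `⟨a, …, f⟩` fixing the point `15` -/
noncomputable def St : Subgroup Cfsg.Spor.ON where
  carrier := {g | g ∈ H6 ∧ π g p₁ = p₁}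
  one_mem' := ⟨one_mem _, by simp⟩
  mul_mem' := fun {g h} hg hh => ⟨mul_mem hg.1 hh.1, by
    rw [map_mul, Perm.mul_apply, hh.2, hg.2]⟩
  inv_mem' := fun {g} hg => ⟨inv_mem hg.1, by
    rw [map_inv, Perm.inv_eq_iff_eq, hg.2]⟩

/-- the transversal -/
noncomputable def tr (j : Fin 5586) : H6 := ⟨(conn j j.2).choose, (conn j j.2).choose_spec.1⟩

theorem tr_spec (j : Fin 5586) : π (tr j) p₁ = ordF ⟨110790 + j, by omega⟩ :=
  (conn j j.2).choose_spec.2

theorem tr_mul_injective : Function.Injective fun q : Fin 5586 × St =>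
    (⟨(tr q.1 : Cfsg.Spor.ON) * q.2, mul_mem (tr q.1).2 q.2.2.1⟩ : H6) := by
  rintro ⟨j, s⟩ ⟨j', s'⟩ h
  have h' : (tr j : Cfsg.Spor.ON) * s = tr j' * s' := congrArg Subtype.val h
  have e : π ((tr j : Cfsg.Spor.ON) * s) p₁ = π ((tr j' : Cfsg.Spor.ON) * s') p₁ := by rw [h']
  rw [map_mul, map_mul, Perm.mul_apply, Perm.mul_apply, s.2.2, s'.2.2, tr_spec, tr_spec] at e
  obtain rfl : j = j' := Fin.ext (by
    have := congrArg Fin.val (ordF_bijective.1 e)
    simpa using this)
  exact Prod.ext rfl (Subtype.ext (mul_left_cancel h'))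

theorem card_St_le : Nat.card St ≤ 672 := by
  have := finite
  have h := Nat.card_le_card_of_injective _ tr_mul_injective
  rw [Nat.card_prod, Nat.card_fin, card_H] at h
  omega

theorem tr_mul_surjective (h : 672 ≤ Nat.card St) (g : Cfsg.Spor.ON) (hg : g ∈ H6) :
    ∃ j : Fin 5586, π g p₁ = ordF ⟨110790 + j, by omega⟩ := by
  have := finite
  have hb := (Nat.bijective_iff_injective_and_card _).2 ⟨tr_mul_injective, by
    rw [Nat.card_prod, Nat.card_fin, card_H, le_antisymm card_St_le h]⟩
  obtain ⟨⟨j, s⟩, e⟩ := hb.2 ⟨g, hg⟩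
  refine ⟨j, ?_⟩
  rw [← show (tr j : Cfsg.Spor.ON) * s = g from congrArg Subtype.val e, map_mul, Perm.mul_apply,
    s.2.2, tr_spec]

/-! ### regular orbits -/

/-- a regular orbit of the stabiliser of `15`, with the images of a second point -/
structure Orb where
  /-- the word giving the two points -/
  u : List Nat
  /-- points -/
  pts : Nat
  /-- parents and generators -/
  par : Nat
  /-- search tree -/
  trie : BTree

namespace Orb

variable (O : Orb)

/-- point number `i` -/
noncomputable def pt (i : Nat) : Nat :=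
  Nat.land (Nat.shiftRight O.pts (Nat.mul (nat_lit 34) i)) (nat_lit 131071)

/-- image of the second point -/
noncomputable def val (i : Nat) : Nat :=
  Nat.land (Nat.shiftRight O.pts (Nat.add (Nat.mul (nat_lit 34) i) (nat_lit 17))) (nat_lit 131071)

/-- parent and generator -/
noncomputable def pa (i : Nat) : Nat :=
  Nat.land (Nat.shiftRight O.par (Nat.mul (nat_lit 12) i)) (nat_lit 4095)

/-- the first point -/
noncomputable def q : Nat := main.app O.u (nat_lit 15)

/-- the orbit data are right -/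
noncomputable def okB : Bool :=
  lt8 O.u && Nat.beq (O.pt 0) O.q && Nat.beq (O.val 0) (main.app O.u O.q) &&
    allBelow (nat_lit 672) fun i =>
      let k := Nat.shiftRight (O.pa i) (nat_lit 2)
      let w := stabW.getD (Nat.land (O.pa i) (nat_lit 3)) []
      let e := O.trie.get (O.pt i)
      Nat.beq (Nat.shiftRight e (nat_lit 27)) (O.pt i) &&
        Nat.beq (Nat.land (Nat.shiftRight e (nat_lit 10)) (nat_lit 131071)) (O.val i) &&
        Nat.beq (Nat.land e (nat_lit 1023)) i &&
        (Nat.beq i (nat_lit 0) || (Nat.blt k i && Nat.blt (Nat.land (O.pa i) (nat_lit 3)) (nat_lit 3) &&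
          Nat.beq (main.app w (O.pt k)) (O.pt i) && Nat.beq (main.app w (O.val k)) (O.val i)))

/-- the two points lead into the orbit -/
noncomputable def hit (z₁ z₂ : Nat) : Bool :=
  Nat.beq (Nat.shiftRight (O.trie.get z₁) (nat_lit 27)) z₁ &&
    Nat.beq (Nat.land (Nat.shiftRight (O.trie.get z₁) (nat_lit 10)) (nat_lit 131071)) z₂

/-- letters leading back to `15` from a position -/
noncomputable def backW (k : Nat) : List Nat :=
  Nat.rec (motive := fun _ => Nat → List Nat) (fun _ => [])
    (fun _ ih k => bif Nat.beq k (nat_lit 110790) then [] else letK k :: ih (parK k))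
    (nat_lit 48) k

/-- no element conjugating `u` to `v` takes `15` to that position -/
noncomputable def noHit (v : List Nat) (k : Nat) : Bool :=
  let z := ordC k
  let w := backW k
  let v₁ := main.app v z
  lt6 w && Nat.beq (main.app w z) (nat_lit 15) &&
    !O.hit (main.app w v₁) (main.app w (main.app v v₁))

/-- all positions but the listed ones are excluded -/
noncomputable def scanB (v : List Nat) (exc : List Nat) : Bool :=
  allBelow (nat_lit 5586) fun j =>
    exc.any (fun i => Nat.beq i j) || O.noHit v (Nat.add (nat_lit 110790) j)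

/-- the word `g` conjugates at the listed position -/
noncomputable def excOK (v : List Nat) (j : Nat) (g : List Nat) : Bool :=
  lt6 g && Nat.blt j (nat_lit 5586) &&
    Nat.beq (main.app g (nat_lit 15)) (ordC (Nat.add (nat_lit 110790) j)) &&
    Nat.beq (main.app g O.q) (main.app v (ordC (Nat.add (nat_lit 110790) j)))

variable {O}

/-- what an element of the stabiliser does at entry `i` -/
def At (O : Orb) (i : Nat) (s : Cfsg.Spor.ON) : Prop :=
  ∀ q₀ q₁ : Fin 122760, (q₀ : Nat) = O.q → (q₁ : Nat) = main.app O.u O.q →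
    ((π s q₀ : Fin 122760) : Nat) = O.pt i ∧ ((π s q₁ : Fin 122760) : Nat) = O.val i

theorem reach (h : O.okB = true) (i : ℕ) (hi : i < 672) : ∃ s ∈ St, O.At i s := by
  simp only [okB, Bool.and_eq_true] at h
  obtain ⟨⟨⟨-, h0⟩, h1⟩, hall⟩ := h
  induction i using Nat.strong_induction_on with
  | _ i ih =>
    have hk := allBelow_spec hall i hi
    simp only [Bool.and_eq_true, Bool.or_eq_true, Nat.blt_eq] at hk
    rcases hk.2 with e | ⟨⟨⟨hlt, h3⟩, ep⟩, ev⟩
    · refine ⟨1, one_mem _, fun q₀ q₁ e0 e1 => ?_⟩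
      rw [map_one, Perm.one_apply, Perm.one_apply, Nat.eq_of_beq_eq_true e, e0, e1]
      exact ⟨(Nat.eq_of_beq_eq_true h0).symm, (Nat.eq_of_beq_eq_true h1).symm⟩
    · obtain ⟨s, hs, e⟩ := ih _ hlt (hlt.trans hi)
      set w := stabW.getD (Nat.land (O.pa i) 3) [] with hw
      have hmem : w ∈ stabW := by
        have hl : Nat.land (O.pa i) 3 < stabW.length := h3
        rw [hw, List.getD_eq_getElem _ _ hl]
        exact List.getElem_mem _
      have hok := List.all_eq_true.1 stabW_ok w hmem
      simp only [Bool.and_eq_true, List.all_eq_true, decide_eq_true_eq] at hok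
      have h6 : lt6 w = true := lt6_iff.2 hok.1
      have h15 : π (El w) p₁ = p₁ :=
        Fin.ext ((π_El (lt8_of_lt6 h6) p₁).trans (Nat.eq_of_beq_eq_true hok.2))
      refine ⟨El w * s, mul_mem ⟨El_mem h6, h15⟩ hs, fun q₀ q₁ e0 e1 => ?_⟩
      obtain ⟨a0, a1⟩ := e q₀ q₁ e0 e1
      rw [map_mul, Perm.mul_apply, Perm.mul_apply, π_El (lt8_of_lt6 h6), π_El (lt8_of_lt6 h6),
        a0, a1]
      exact ⟨Nat.eq_of_beq_eq_true ep, Nat.eq_of_beq_eq_true ev⟩

/-- the two points as elements of `Fin` -/
theorem exists_points (h : O.okB = true) :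
    ∃ q₀ q₁ : Fin 122760, (q₀ : Nat) = O.q ∧ (q₁ : Nat) = main.app O.u O.q ∧
      π (El O.u) p₁ = q₀ ∧ π (El O.u) q₀ = q₁ := by
  simp only [okB, Bool.and_eq_true] at h
  refine ⟨_, _, π_El h.1.1.1 p₁, ?_, rfl, rfl⟩
  rw [π_El h.1.1.1, π_El h.1.1.1]
  rfl

theorem regular (h : O.okB = true) (q₀ : Fin 122760) (h₀ : (q₀ : Nat) = O.q) :
    672 ≤ Nat.card St ∧ (∀ s ∈ St, ∃ i < 672, O.At i s) ∧
      ∀ s ∈ St, π s q₀ = q₀ → s = 1 := by
  have := finite
  obtain ⟨q₀', q₁, e0, e1, -, -⟩ := exists_points h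
  obtain rfl : q₀ = q₀' := Fin.ext (h₀.trans e0.symm)
  let f : Fin 672 → St := fun i => ⟨(reach h i i.2).choose, (reach h i i.2).choose_spec.1⟩
  have hf : ∀ i : Fin 672, O.At i (f i) := fun i => (reach h i i.2).choose_spec.2
  have hinj : ∀ i j : Fin 672, π (f i : Cfsg.Spor.ON) q₀ = π (f j : Cfsg.Spor.ON) q₀ → i = j := by
    intro i j e
    have hh := h
    simp only [okB, Bool.and_eq_true] at hh
    have ki := allBelow_spec hh.2 i i.2
    have kj := allBelow_spec hh.2 j j.2
    simp only [Bool.and_eq_true] at ki kj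
    have e' : O.pt i = O.pt j := by
      rw [← (hf i q₀ q₁ h₀ e1).1, ← (hf j q₀ q₁ h₀ e1).1, e]
    refine Fin.ext ?_
    rw [← Nat.eq_of_beq_eq_true ki.1.2, ← Nat.eq_of_beq_eq_true kj.1.2, e']
  have hbij : Function.Bijective f := by
    have hi : Function.Injective f := fun i j e => hinj i j (by rw [e])
    refine (Nat.bijective_iff_injective_and_card f).2 ⟨hi, ?_⟩
    have := Nat.card_le_card_of_injective f hi
    rw [Nat.card_fin] at this ⊢
    exact le_antisymm this card_St_le
  refine ⟨?_, fun s hs => ?_, fun s hs hfix => ?_⟩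
  · rw [← Nat.card_congr (Equiv.ofBijective f hbij), Nat.card_fin]
  · obtain ⟨i, e⟩ := hbij.2 ⟨s, hs⟩
    exact ⟨i, i.2, by have h2 := hf i; rw [e] at h2; exact h2⟩
  · obtain ⟨i, e⟩ := hbij.2 ⟨s, hs⟩
    obtain ⟨i', e'⟩ := hbij.2 ⟨1, one_mem _⟩
    have : i = i' := hinj i i' (by rw [e, e']; simpa using hfix)
    rw [← this, e] at e'
    exact congrArg Subtype.val e'

/-- an element of `⟨a, …, f⟩` conjugating `u` to `v` is listed -/
theorem scan_spec (h : O.okB = true) {v : List Nat} (hv : lt8 v = true)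
    {exc : List (Nat × Nat)} {wd : Nat → List Nat}
    (hexc : (exc.all fun e => O.excOK v e.1 (wd e.2)) = true)
    (hscan : O.scanB v (exc.map Prod.fst) = true)
    {g : Cfsg.Spor.ON} (hg : g ∈ H6) (hc : g * El O.u = El v * g) :
    ∃ e ∈ exc, lt6 (wd e.2) = true ∧ g = El (wd e.2) := by
  obtain ⟨q₀, q₁, e0, e1, eu0, eu1⟩ := exists_points h
  obtain ⟨hcard, hS, huniq⟩ := regular h q₀ e0
  obtain ⟨j, hj⟩ := tr_mul_surjective hcard g hg
  set z : Fin 122760 := ordF ⟨110790 + j, by omega⟩ with hz
  have hgq : π g q₀ = π (El v) z := by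
    rw [← eu0, ← Perm.mul_apply, ← map_mul, hc, map_mul, Perm.mul_apply, hj]
  have hgq₁ : π g q₁ = π (El v) (π (El v) z) := by
    rw [← eu1, ← Perm.mul_apply, ← map_mul, hc, map_mul, Perm.mul_apply, hgq]
  have hk := allBelow_spec hscan j j.2
  rw [Bool.or_eq_true] at hk
  rcases hk with hk | hk
  · obtain ⟨i, hi, e⟩ := List.any_eq_true.1 hk
    obtain ⟨x, hx, rfl⟩ := List.mem_map.1 hi
    have ok := List.all_eq_true.1 hexc x hx
    simp only [excOK, Bool.and_eq_true] at ok
    obtain ⟨⟨⟨h6, -⟩, a1⟩, a2⟩ := ok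
    rw [Nat.eq_of_beq_eq_true e] at a1 a2
    refine ⟨x, hx, h6, ?_⟩
    set g' := El (wd x.2) with hg'
    have b1 : π g' p₁ = z := Fin.ext ((π_El (lt8_of_lt6 h6) p₁).trans (Nat.eq_of_beq_eq_true a1))
    have b2 : π g' q₀ = π (El v) z := Fin.ext (by
      rw [hg', π_El (lt8_of_lt6 h6), π_El hv, e0]
      exact Nat.eq_of_beq_eq_true a2)
    have hmem : g'⁻¹ * g ∈ St := ⟨mul_mem (inv_mem (El_mem h6)) hg, by
      rw [map_mul, map_inv, Perm.mul_apply, hj, Perm.inv_eq_iff_eq, b1]⟩
    exact (inv_mul_eq_one.1 (huniq _ hmem (by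
      rw [map_mul, map_inv, Perm.mul_apply, hgq, Perm.inv_eq_iff_eq, b2]))).symm
  · exfalso
    simp only [noHit, Bool.and_eq_true, Bool.not_eq_true'] at hk
    obtain ⟨⟨h6, hback⟩, hno⟩ := hk
    set w := backW (Nat.add 110790 j) with hw
    have h8 := lt8_of_lt6 h6
    have bz : π (El w) z = p₁ := Fin.ext ((π_El h8 z).trans (Nat.eq_of_beq_eq_true hback))
    have hmem : El w * g ∈ St := ⟨mul_mem (El_mem h6) hg, by
      rw [map_mul, Perm.mul_apply, hj, bz]⟩
    obtain ⟨i, hi, hat⟩ := hS _ hmem
    obtain ⟨c0, c1⟩ := hat q₀ q₁ e0 e1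
    rw [map_mul, Perm.mul_apply, hgq, π_El h8, π_El hv] at c0
    rw [map_mul, Perm.mul_apply, hgq₁, π_El h8, π_El hv, π_El hv] at c1
    have hh := h
    simp only [okB, Bool.and_eq_true] at hh
    have ki := allBelow_spec hh.2 i hi
    simp only [Bool.and_eq_true] at ki
    have hyes : O.hit (main.app w (main.app v (ordC (Nat.add 110790 j))))
        (main.app w (main.app v (main.app v (ordC (Nat.add 110790 j))))) = true := by
      show O.hit (main.app w (main.app v (z : Nat))) (main.app w (main.app v (main.app v (z : Nat)))) = true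
      rw [c0, c1, hit, Bool.and_eq_true]
      exact ⟨ki.1.1.1, ki.1.1.2⟩
    rw [hyes] at hno
    exact Bool.noConfusion hno

end Orb

/-- the orbit for the element of order 19 -/
noncomputable def orbA : Orb := ⟨aW ++ aW, APts, APar, ATrie⟩

/-- the orbit for the element of order six -/
noncomputable def orbB : Orb := ⟨pW ++ bW ++ invW pW, BPts, BPar, BTrie⟩

end CfsgLib.Spor.ONOut
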