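import Cfsg.Agent.Lib.Spor.ONOut.Defs

/-!
Kernel check: the centraliser of the element of order 19.
-/

set_option autoImplicit false
set_option maxRecDepth 100000
set_option Elab.async false

namespace CfsgLib.Spor.ONOut

open CfsgLib.PresCert CfsgLib.Spor.ON

theorem scanA_ok : orbA.scanB (aW ++ aW) (excA.map Prod.fst) = true := by decide +kernel

end CfsgLib.Spor.ONOut
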