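import Cfsg.Agent.Lib.Spor.ONOut.Defs

/-!
Kernel checks: the fixed points of the element of order six.
-/

set_option autoImplicit false
set_option maxRecDepth 100000
set_option Elab.async false

namespace CfsgLib.Spor.ONOut

open CfsgLib.PresCert CfsgLib.Spor.ON

theorem fixB_4 : fixBOK 65536 16384 = true := by decide +kernel

theorem fixB_5 : fixBOK 81920 16384 = true := by decide +kernel

theorem fixB_6 : fixBOK 98304 16384 = true := by decide +kernel

theorem fixB_7 : fixBOK 114688 8072 = true := by decide +kernel

end CfsgLib.Spor.ONOut
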