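import Cfsg.Agent.Lib.Spor.ONOut.Defs

/-!
Kernel checks: the two regular orbits and the listed elements.
-/

set_option autoImplicit false
set_option maxRecDepth 100000
set_option Elab.async false

namespace CfsgLib.Spor.ONOut

open CfsgLib.PresCert CfsgLib.Spor.ON

theorem orbA_ok : orbA.okB = true := by decide +kernel

theorem orbB_ok : orbB.okB = true := by decide +kernel

theorem excA_ok : excAOK = true := by decide +kernel

theorem fixTab_ok : ((List.range 9).all fixTabOK) = true := by decide +kernel

theorem fix0_ok : Nat.beq (main.app aW 0) 0 = true := by decide +kernel

end CfsgLib.Spor.ONOut
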