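import Cfsg.Agent.Lib.Spor.ONOut.Defs

/-!
Kernel checks: the relations excluding the other images.
-/

set_option autoImplicit false
set_option maxRecDepth 100000
set_option Elab.async false

namespace CfsgLib.Spor.ONOut

open CfsgLib.PresCert CfsgLib.Spor.ON

theorem rel_ok : (relTab.all fun W => W.all (fun x => Nat.blt x 3) &&
    triv (subW aW bW (cW iC) W)) = true := by decide +kernel

theorem kill_ok : ((List.range 3).all fun n => (List.range 72).all fun k => killed n k) = true := by
  decide +kernel

theorem small_ok : (triv (powW' aW 19) && triv (powW' bW 6) && !triv aW && !triv bW &&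
    sameB (invW bW ++ aW ++ bW) (powW' aW 8) && sameB (cW iC ++ bW) (bW ++ cW iC) &&
    !sameB (cW iC) (cW iD)) = true := by decide +kernel

end CfsgLib.Spor.ONOut
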