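import Cfsg.Agent.Lib.Spor.ONOut.Defs

/-!
Kernel checks: generation and the outer automorphism.
-/

set_option autoImplicit false
set_option maxRecDepth 100000
set_option Elab.async false

namespace CfsgLib.Spor.ONOut

open CfsgLib.PresCert CfsgLib.Spor.ON

theorem gen_ok : ((List.range 8).all fun x =>
    sameB [x] (subW aW bW (cW iC) (genW.getD x []))) = true := by decide +kernel

theorem sig_rels : (baseW.all fun w => triv (sigOf w)) = true := by decide +kernel

theorem sig_inv : triv (sigOf [6, 7]) = true := by decide +kernel

theorem sig_a : sameB (sigOf aW) aW = true := by decide +kernel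

theorem sig_b : sameB (sigOf bW) bW = true := by decide +kernel

theorem sig_c : sameB (sigOf (cW iC)) (cW iD) = true := by decide +kernel

end CfsgLib.Spor.ONOut
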