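import Cfsg.Agent.Lib.Spor.ONOut.Base

/-!
The three elements generating the presented O'Nan group and the checks on them.
-/

set_option autoImplicit false
set_option maxRecDepth 100000

namespace CfsgLib.Spor.ONOut

open CfsgLib.PresCert CfsgLib.Spor.ON

/-- word of a centralising element of `bW` -/
noncomputable def cwd (y k : Nat) : List Nat :=
  invW pW ++ gTab.getD k [] ++ tTab.getD y []

/-- the fixed point number of a listed element -/
def idxY (k : Nat) : Nat :=
  ((List.range 9).find? fun m => (excB.getD m []).any fun e => Nat.beq e.2 k).getD 0

/-- word of element `k` -/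
noncomputable def cW (k : Nat) : List Nat := cwd (idxY k) k

/-- the conjugate of `bW` at a fixed point -/
noncomputable def vB (m : Nat) : List Nat := tTab.getD m [] ++ bW ++ invW (tTab.getD m [])

/-- a power of a word -/
noncomputable def powW' (w : List Nat) (n : Nat) : List Nat := (List.replicate n w).flatten

/-- substitute three words and their inverses into a pattern -/
noncomputable def subW (A B C : List Nat) (W : List Nat) : List Nat :=
  W.flatMap fun x => [A, B, C, invW A, invW B, invW C].getD x []

/-- a range of points none of which outside the list is fixed by `bW` -/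
noncomputable def fixBOK (lo len : Nat) : Bool :=
  allBelow len fun j =>
    !Nat.beq (main.app bW (Nat.add lo j)) (Nat.add lo j) ||
      fixB.any fun i => Nat.beq i (Nat.add lo j)

/-- the data at one fixed point -/
noncomputable def fixTabOK (m : Nat) : Bool :=
  lt8 (tTab.getD m []) && Nat.beq (main.app (tTab.getD m []) (nat_lit 0)) (fixB.getD m (nat_lit 0)) &&
    Nat.beq (main.app (vB m) (nat_lit 0)) (nat_lit 0) &&
    (excB.getD m []).all fun e => Nat.blt e.2 (nat_lit 72) && Nat.beq (idxY e.2) m &&
      orbB.excOK (vB m) e.1 (gTab.getD e.2 [])

/-- the exclusions at one fixed point -/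
noncomputable def scanAt (m : Nat) : Bool := orbB.scanB (vB m) ((excB.getD m []).map Prod.fst)

/-- all listed powers of `aW` are at their positions -/
noncomputable def excAOK : Bool :=
  excA.all fun e => orbA.excOK (aW ++ aW) e.1 (powW' aW e.2)

/-- the image of a letter under the outer automorphism, as a word in the letters -/
noncomputable def sigW (x : Nat) : List Nat :=
  bif Nat.beq x (nat_lit 7) then invW (subW aW bW (cW iD) (genW.getD (nat_lit 6) []))
  else subW aW bW (cW iD) (genW.getD x [])

/-- the image of a word -/
noncomputable def sigOf (w : List Nat) : List Nat := w.flatMap sigW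

/-- a word moves none of the three base points -/
noncomputable def triv (w : List Nat) : Bool :=
  lt8 w && Nat.beq (main.app w (nat_lit 0)) (nat_lit 0) &&
    Nat.beq (main.app w (nat_lit 15)) (nat_lit 15) &&
    Nat.beq (main.app w (nat_lit 71333)) (nat_lit 71333)

/-- possible first images -/
def rList : List Nat := [1, 2, 4]

/-- one possible image is wrong unless it is one of the two -/
noncomputable def killed (n k : Nat) : Bool :=
  let code := (killTab.getD n []).getD k (nat_lit 0)
  let W := subW (powW' aW (rList.getD n 0)) bW (cW k) (relTab.getD (Nat.shiftRight code (nat_lit 2)) [])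
  let p := [0, 15, 71333].getD (Nat.land code (nat_lit 3)) (nat_lit 0)
  (Nat.beq n 0 && (Nat.beq k iC || Nat.beq k iD)) ||
    (Nat.blt (Nat.shiftRight code (nat_lit 2)) relTab.length && lt8 W && Nat.blt p (nat_lit 122760) &&
      !Nat.beq (main.app W p) p)

end CfsgLib.Spor.ONOut
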