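import Cfsg.Agent.Lib.Spor.ONOut.CheckOrb
import Cfsg.Agent.Lib.Spor.ONOut.CheckA
import Cfsg.Agent.Lib.Spor.ONOut.CheckB0
import Cfsg.Agent.Lib.Spor.ONOut.CheckB1
import Cfsg.Agent.Lib.Spor.ONOut.CheckB2
import Cfsg.Agent.Lib.Spor.ONOut.CheckFix0
import Cfsg.Agent.Lib.Spor.ONOut.CheckFix1
import Cfsg.Agent.Lib.Spor.ONOut.CheckRel

/-!
Centralisers of an element of order 19 and of an element of order six in the presented O'Nan group.
-/

set_option autoImplicit false
set_option maxRecDepth 100000

namespace CfsgLib.Spor.ONOut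

open CfsgLib.PresCert CfsgLib.Spor.ON Cfsg.Spor Equiv

/-- the element of order 19 -/
noncomputable abbrev ea : Cfsg.Spor.ON := El aW

/-- the element of order six -/
noncomputable abbrev eb : Cfsg.Spor.ON := El bW

theorem El_powW' (w : List Nat) (n : Nat) : El (powW' w n) = El w ^ n := by
  induction n with
  | zero => simp [powW', El_nil]
  | succ n ih =>
    rw [powW', List.replicate_succ, List.flatten_cons, El_append]
    rw [powW'] at ih
    rw [ih, pow_succ]

theorem triv_spec {w : List Nat} (h : triv w = true) : evalW gen w = 1 := by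
  simp only [triv, Bool.and_eq_true] at h
  refine word_eq_one ?_
  simp only [Bool.and_eq_true, List.all_eq_true, decide_eq_true_eq]
  exact ⟨⟨⟨lt8_iff.1 h.1.1.1, h.1.1.2⟩, h.1.2⟩, h.2⟩

theorem El_eq_one {w : List Nat} (h : triv w = true) : El w = 1 := by
  rw [El, triv_spec h, inv_one]

theorem same_of_eq {v w : List Nat} (hv : lt8 v = true) (hw : lt8 w = true) (e : El v = El w) :
    sameB v w = true := by
  have key : ∀ p : Fin 122760, Nat.beq (main.app v p) (main.app w p) = true := fun p => by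
    rw [← π_El hv, ← π_El hw, e]
    exact Nat.beq_refl _
  simp only [sameB, Bool.and_eq_true]
  exact ⟨⟨⟨⟨hv, hw⟩, key i₀⟩, key p₁⟩, key p₂⟩

theorem letters : lt6 aW = true ∧ lt6 bW = true ∧ lt6 pW = true ∧ lt8 (cW iC) = true ∧
    lt8 (cW iD) = true := by
  decide +kernel

theorem ea_order : orderOf ea = 19 := by
  have h := small_ok
  simp only [Bool.and_eq_true, Bool.not_eq_true'] at h
  have hp : Fact (Nat.Prime 19) := ⟨by norm_num⟩
  refine orderOf_eq_prime ?_ fun e => ?_
  · rw [← El_powW']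
    exact El_eq_one h.1.1.1.1.1.1
  · have hs := same_of_eq (lt8_of_lt6 letters.1) (w := []) rfl (by rw [El_nil]; exact e)
    simp only [sameB, Bool.and_eq_true] at hs
    have : triv aW = true := by
      simp only [triv, Bool.and_eq_true]
      exact ⟨⟨⟨hs.1.1.1.1, hs.1.1.2⟩, hs.1.2⟩, hs.2⟩
    rw [this] at h
    exact Bool.noConfusion h.1.1.1.1.2

/-- the element of order 19 fixes a single point -/
theorem fixA (y : Fin 122760) (hy : π ea y = y) : y = i₀ := by
  classical
  have := finite
  letI := actH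
  have hsmul : ∀ (h : H6) (i : Fin 122760), h • i = π (h : Cfsg.Spor.ON) i := fun _ _ => rfl
  set S : Set (Fin 122760) := MulAction.orbit H6 y with hS
  have hinv : ∀ h ∈ H6, ∀ i ∈ S, π h i ∈ S := by
    rintro h hh _ ⟨k, rfl⟩
    exact ⟨⟨h, hh⟩ * k, by show (⟨h, hh⟩ * k : H6) • y = _; rw [mul_smul]; rfl⟩
  by_cases h00 : OverSet S 0
  · obtain ⟨h0, k, hk⟩ := h00
    have hk' : π (k : Cfsg.Spor.ON) y = i₀ := by
      rw [← hsmul]
      exact Eq.trans hk (Fin.ext (show ordC 0 = 0 by decide +kernel))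
    have := H_fix _ (H6.inv_mem k.2)
    rw [← hk', ← Perm.mul_apply, ← map_mul, inv_mul_cancel, map_one, Perm.one_apply] at this
    rw [this, hk']
  · exfalso
    have hcard : S.ncard = Nat.count (OverSet S) 122760 := by
      rw [Nat.count_eq_card_filter_range, ← Set.ncard_coe_finset]
      symm
      refine Set.ncard_congr
        (fun k hk => ordF ⟨k, List.mem_range.1 (by simpa using (Finset.mem_filter.1 hk).1)⟩) ?_ ?_ ?_
      · intro k hk
        obtain ⟨-, h, hm⟩ := Finset.mem_filter.1 hk
        exact hm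
      · intro a b ha hb h
        exact congrArg Fin.val (ordF_bijective.1 h)
      · intro i hi
        obtain ⟨k, rfl⟩ := ordF_bijective.2 i
        exact ⟨k, Finset.mem_coe.2 (Finset.mem_filter.2 ⟨Finset.mem_range.2 k.2, k.2, hi⟩), rfl⟩
    have e1 := orbit_count S hinv 0 1 orbit_0 (by omega)
    have e2 := orbit_count S hinv 1 58653 orbit_1 (by omega)
    have e3 := orbit_count S hinv 58654 52136 orbit_2 (by omega)
    have e4 := orbit_count S hinv 110790 5586 orbit_3 (by omega)
    have e5 := orbit_count S hinv 116376 6384 orbit_4 (by omega)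
    simp only [Nat.reduceAdd, Nat.count_zero, if_neg h00, Nat.zero_add] at e1 e2 e3 e4 e5
    rw [e4, e3, e2, e1] at e5
    have h19 : 19 ∣ Nat.card S := by
      rw [Nat.card_coe_set_eq, hcard, e5]
      split_ifs <;> norm_num
    have e : Nat.card S * Nat.card (MulAction.stabilizer H6 y) = 3753792 := by
      rw [← card_H, ← (MulAction.stabilizer H6 y).card_mul_index,
        Nat.card_congr (MulAction.orbitEquivQuotientStabilizer H6 y), ← Subgroup.index_eq_card,
        mul_comm]
    have hmem : (⟨ea, El_mem letters.1⟩ : H6) ∈ MulAction.stabilizer H6 y := by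
      rw [MulAction.mem_stabilizer_iff, hsmul]
      exact hy
    have h19' : 19 ∣ Nat.card (MulAction.stabilizer H6 y) := by
      have := Subgroup.orderOf_dvd_natCard _ hmem
      rwa [← orderOf_injective H6.subtype H6.subtype_injective, Subgroup.coe_subtype, ea_order] at this
    have := Nat.mul_dvd_mul h19 h19'
    rw [e] at this
    norm_num at this

/-- only its powers commute with the element of order 19 -/
theorem centA (g : Cfsg.Spor.ON) (hg : g * ea = ea * g) : ∃ t : ℕ, g = ea ^ t := by
  have hH : g ∈ H6 := mem_H_of_fix g (fixA _ (by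
    rw [← Perm.mul_apply, ← map_mul, ← hg, map_mul, Perm.mul_apply, H_fix _ (El_mem letters.1)]))
  have hv : lt8 (aW ++ aW) = true := lt8_append.2 ⟨lt8_of_lt6 letters.1, lt8_of_lt6 letters.1⟩
  have hc : g * El orbA.u = El (aW ++ aW) * g := by
    show g * El (aW ++ aW) = _
    rw [El_append, ← mul_assoc, hg, mul_assoc, hg, ← mul_assoc]
  obtain ⟨e, -, -, rfl⟩ := Orb.scan_spec orbA_ok hv (wd := fun t => powW' aW t) excA_ok scanA_ok hH hc
  exact ⟨e.2, El_powW' _ _⟩

theorem fixB_all (c : Nat) (hc : c < 122760) (h : main.app bW c = c) : c ∈ fixB := by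
  have key : ∀ lo len, fixBOK lo len = true → lo ≤ c → c < lo + len → c ∈ fixB := by
    intro lo len hok h1 h2
    have hk := allBelow_spec hok (c - lo) (by omega)
    rw [show Nat.add lo (c - lo) = c from Nat.add_sub_cancel' h1] at hk
    simp only [Bool.or_eq_true, Bool.not_eq_true', List.any_eq_true] at hk
    rcases hk with hk | ⟨i, hi, e⟩
    · rw [h, Nat.beq_refl] at hk
      exact Bool.noConfusion hk
    · rwa [← Nat.eq_of_beq_eq_true e]
  rcases lt_or_ge c 16384 with h1 | h1
  · exact key _ _ fixB_0 (Nat.zero_le _) (by omega)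
  rcases lt_or_ge c 32768 with h2 | h2
  · exact key _ _ fixB_1 h1 (by omega)
  rcases lt_or_ge c 49152 with h3 | h3
  · exact key _ _ fixB_2 h2 (by omega)
  rcases lt_or_ge c 65536 with h4 | h4
  · exact key _ _ fixB_3 h3 (by omega)
  rcases lt_or_ge c 81920 with h5 | h5
  · exact key _ _ fixB_4 h4 (by omega)
  rcases lt_or_ge c 98304 with h6 | h6
  · exact key _ _ fixB_5 h5 (by omega)
  rcases lt_or_ge c 114688 with h7 | h7
  · exact key _ _ fixB_6 h6 (by omega)
  · exact key _ _ fixB_7 h7 (by omega)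

theorem scanB_all {m : Nat} (hm : m < 9) : scanAt m = true := by
  interval_cases m
  exacts [scanB_0, scanB_1, scanB_2, scanB_3, scanB_4, scanB_5, scanB_6, scanB_7, scanB_8]

/-- the elements commuting with the element of order six are listed -/
theorem centB (g : Cfsg.Spor.ON) (hg : g * eb = eb * g) :
    ∃ k < 72, g = El (cW k) := by
  have hb8 := lt8_of_lt6 letters.2.1
  have hy : main.app bW (π g i₀ : Fin 122760) = ((π g i₀ : Fin 122760) : Nat) := by
    rw [← π_El hb8, ← Perm.mul_apply, ← map_mul, ← hg, map_mul, Perm.mul_apply,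
      H_fix _ (El_mem letters.2.1)]
  have hmem := fixB_all _ (π g i₀).2 hy
  obtain ⟨m, hm, em⟩ := List.getElem_of_mem hmem
  have hm9 : m < 9 := hm
  have ok := List.all_eq_true.1 fixTab_ok m (List.mem_range.2 hm9)
  simp only [fixTabOK, Bool.and_eq_true, List.all_eq_true, Nat.blt_eq] at ok
  obtain ⟨⟨⟨ht, e0⟩, -⟩, hexc⟩ := ok
  set t := tTab.getD m [] with hteq
  have hgt : π (El t) i₀ = π g i₀ := Fin.ext (by
    rw [π_El ht, ← em]
    exact (Nat.eq_of_beq_eq_true e0).trans (List.getD_eq_getElem _ _ hm))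
  have hh : (El t)⁻¹ * g ∈ H6 := mem_H_of_fix _ (by
    rw [map_mul, map_inv, Perm.mul_apply, Perm.inv_eq_iff_eq, hgt])
  have hp8 := lt8_of_lt6 letters.2.2.1
  have hv : lt8 (vB m) = true := by
    simp only [vB, lt8_append]
    exact ⟨⟨ht, hb8⟩, lt8_invW ht⟩
  have hc : (El t)⁻¹ * g * El pW * El orbB.u = El (vB m) * ((El t)⁻¹ * g * El pW) := by
    show (El t)⁻¹ * g * El pW * El (pW ++ bW ++ invW pW) = _
    simp only [vB, ← hteq, El_append, El_invW hp8, El_invW ht, mul_assoc, mul_inv_cancel_left]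
    rw [← mul_assoc g, hg, mul_assoc]
  have hall : ((excB.getD m []).all fun e => orbB.excOK (vB m) e.1 (gTab.getD e.2 [])) = true :=
    List.all_eq_true.2 fun e he => (hexc e he).2
  obtain ⟨e, he, h6, eg⟩ := Orb.scan_spec orbB_ok hv (wd := fun k => gTab.getD k []) hall
    (scanB_all hm9) (mul_mem hh (El_mem letters.2.2.1)) hc
  obtain ⟨⟨hk, hidx⟩, -⟩ := hexc e he
  refine ⟨e.2, hk, ?_⟩
  rw [cW, Nat.eq_of_beq_eq_true hidx, cwd, El_append, El_append, El_invW hp8, ← hteq, ← eg]
  group

end CfsgLib.Spor.ONOut
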