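import Cfsg.Agent.Lib.Spor.OutKit.Bound
import Cfsg.Agent.Lib.Spor.ONOut.FixPoints
import Cfsg.Agent.Lib.Spor.ONOut.CheckSig

/-!
The outer automorphism group of the presented O'Nan group has order two.
-/

set_option autoImplicit false
set_option maxRecDepth 100000

namespace CfsgLib.Spor.ONOut

open CfsgLib.PresCert CfsgLib.Spor.ON Cfsg.Spor Cfsg

/-- value of a pattern -/
noncomputable def Wv {G : Type*} [Monoid G] (f : Nat → G) (W : List Nat) : G :=
  (W.reverse.map f).prod

theorem El_flatMap (f : Nat → List Nat) (W : List Nat) :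
    El (W.flatMap f) = Wv (fun x => El (f x)) W := by
  induction W with
  | nil => simp [Wv, El_nil]
  | cons x W ih => simp [Wv, El_append, ih]

/-- the third element -/
noncomputable abbrev ec : Cfsg.Spor.ON := El (cW iC)

/-- its twin -/
noncomputable abbrev ed : Cfsg.Spor.ON := El (cW iD)

theorem ec_comm : ec * eb = eb * ec := by
  have h := small_ok
  simp only [Bool.and_eq_true] at h
  have := eq_of_same h.1.2
  rw [El_append, El_append] at this
  exact this.symm

theorem conj_a : eb * ea * eb⁻¹ = ea ^ 8 := by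
  have h := small_ok
  simp only [Bool.and_eq_true] at h
  have := eq_of_same h.1.1.2
  rw [El_append, El_append, El_invW (lt8_of_lt6 letters.2.1), El_powW'] at this
  rw [mul_assoc]
  exact this

theorem closure_eq : Subgroup.closure ({ea, eb, ec} : Set Cfsg.Spor.ON) = ⊤ := by
  set K := Subgroup.closure ({ea, eb, ec} : Set Cfsg.Spor.ON)
  have ha : El aW ∈ K := Subgroup.subset_closure (by simp)
  have hb : El bW ∈ K := Subgroup.subset_closure (by simp)
  have hc : El (cW iC) ∈ K := Subgroup.subset_closure (by simp)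
  have hw : ∀ x, El ([aW, bW, cW iC, invW aW, invW bW, invW (cW iC)].getD x []) ∈ K := by
    intro x
    match x with
    | 0 => exact ha
    | 1 => exact hb
    | 2 => exact hc
    | 3 => show El (invW aW) ∈ K; rw [El_invW (lt8_of_lt6 letters.1)]; exact inv_mem ha
    | 4 => show El (invW bW) ∈ K; rw [El_invW (lt8_of_lt6 letters.2.1)]; exact inv_mem hb
    | 5 => show El (invW (cW iC)) ∈ K; rw [El_invW letters.2.2.2.1]; exact inv_mem hc
    | n + 6 =>
      rw [List.getD_eq_default _ _ (by simp), El_nil]
      exact one_mem _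
  rw [eq_top_iff, ← lsub_all, lsub, Subgroup.closure_le]
  rintro _ ⟨x, hx, rfl⟩
  have h := List.all_eq_true.1 gen_ok x hx
  have hm : El [x] ∈ K := by
    rw [eq_of_same h, subW, El_flatMap]
    exact list_prod_mem fun q hq => by
      obtain ⟨y, -, rfl⟩ := List.mem_map.1 hq
      exact hw y
  have e : El [x] = (letG x)⁻¹ := by simp [El, evalW]
  rw [e] at hm
  exact inv_inv (letG x) ▸ inv_mem hm

/-- images of the generators -/
noncomputable def sigGen (x : ON.Gen) : Cfsg.Spor.ON :=
  match x with
  | .a => evalW gen (sigW 0) | .b => evalW gen (sigW 1) | .c => evalW gen (sigW 2)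
  | .d => evalW gen (sigW 3) | .e => evalW gen (sigW 4) | .f => evalW gen (sigW 5)
  | .g => evalW gen (sigW 6)

theorem evalW_sigGen : ∀ w : List Nat, lt8 w = true → evalW sigGen w = evalW gen (sigOf w)
  | [], _ => by simp [evalW, sigOf]
  | x :: w, h => by
    have hx : x < 8 := lt8_iff.1 h x (List.mem_cons_self ..)
    have ih := evalW_sigGen w (lt8_iff.2 fun y hy => lt8_iff.1 h y (List.mem_cons_of_mem _ hy))
    have e : lets sigGen x = evalW gen (sigW x) := by
      interval_cases x <;> try rfl
      have := triv_spec sig_inv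
      rw [show sigOf [6, 7] = sigW 6 ++ (sigW 7 ++ []) from rfl, List.append_nil, evalW_append] at this
      exact (eq_inv_of_mul_eq_one_right this).symm
    rw [show evalW sigGen (x :: w) = lets sigGen x * evalW sigGen w by simp [evalW], e, ih,
      show sigOf (x :: w) = sigW x ++ sigOf w from rfl, evalW_append]

theorem baseW_lt : (baseW.all lt8) = true := by decide +kernel

theorem sigGen_one {w : List Nat} (hw : w ∈ baseW) : evalW sigGen w = 1 := by
  rw [evalW_sigGen w (List.all_eq_true.1 baseW_lt w hw)]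
  exact triv_spec (List.all_eq_true.1 sig_rels w hw)

theorem sigGen_cox (i j : Nat) (hi : i < 6) (hj : j < 6) :
    (lets sigGen i * lets sigGen j) ^ coxLabel ON.edges (node i) (node j) = 1 := by
  rw [← evalW_powW]
  refine sigGen_one (List.mem_append_left _ (List.mem_append_left _ ?_))
  exact List.mem_flatMap.2 ⟨i, List.mem_range.2 hi, List.mem_map.2 ⟨j, List.mem_range.2 hj, rfl⟩⟩

theorem sigGen_rels : ∀ r ∈ coxRelators ON.edges ∪ {r | r ∈ ON.extra},
    FreeGroup.lift sigGen r = 1 := by
  rintro r (⟨x, hx, y, hy, rfl⟩ | hr)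
  · obtain ⟨i, hi, rfl⟩ := exists_node hx
    obtain ⟨j, hj, rfl⟩ := exists_node hy
    simpa [lets_node sigGen hi, lets_node sigGen hj] using sigGen_cox i j hi hj
  · have hsq : ∀ i < 6, lets sigGen i * lets sigGen i = 1 := fun i hi => by
      have := sigGen_cox i i hi hi
      simpa [coxLabel] using this
    have h : FreeGroup.lift sigGen r ∈ extraW.map (evalW sigGen) :=
      lift_extra sigGen hsq ▸ List.mem_map.2 ⟨r, hr, rfl⟩
    obtain ⟨w, hw, e⟩ := List.mem_map.1 h
    rw [← e]
    exact sigGen_one (List.mem_append_left _ (List.mem_append_right _ hw))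

/-- the outer automorphism as an endomorphism -/
noncomputable def tau : Cfsg.Spor.ON →* Cfsg.Spor.ON := PresentedGroup.toGroup sigGen_rels

theorem tau_lets (x : Nat) : tau (letG x) = lets sigGen x := by
  have h : ∀ y, tau (gen y) = sigGen y := fun y => PresentedGroup.toGroup.of sigGen_rels
  unfold letG lets
  split <;> simp [h]

theorem tau_El {w : List Nat} (hw : lt8 w = true) : tau (El w) = El (sigOf w) := by
  rw [El, map_inv, El, evalW, map_list_prod, List.map_map]
  refine congrArg (·⁻¹) ?_
  rw [← evalW_sigGen w hw, evalW]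
  exact congrArg List.prod (List.map_congr_left fun x _ => tau_lets x)

theorem tau_a : tau ea = ea :=
  (tau_El (lt8_of_lt6 letters.1)).trans (eq_of_same sig_a)

theorem tau_b : tau eb = eb :=
  (tau_El (lt8_of_lt6 letters.2.1)).trans (eq_of_same sig_b)

theorem tau_c : tau ec = ed := (tau_El letters.2.2.2.1).trans (eq_of_same sig_c)

theorem tau_injective : Function.Injective tau := by
  have := isSimple
  rw [← MonoidHom.ker_eq_bot_iff]
  rcases (inferInstance : tau.ker.Normal).eq_bot_or_eq_top with h | h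
  · exact h
  · exfalso
    have he : tau ea = 1 := MonoidHom.mem_ker.1 (h ▸ Subgroup.mem_top _)
    rw [tau_a] at he
    have := ea_order
    rw [he, orderOf_one] at this
    omega

theorem hs1 : (((8 : ℕ) : ZMod 19) - 1) ≠ 0 := by decide

theorem hs : ∀ j < 19, j ≠ 0 → ∃ i < 19, ∃ r ∈ rList, j * 8 ^ i % 19 = r % 19 := by decide

theorem upper : Nat.card (Cfsg.Out Cfsg.Spor.ON) ≤ 2 := by
  classical
  have := finite
  have : Fact (Nat.Prime 19) := ⟨by norm_num⟩
  refine (CfsgLib.SporOut.natCard_out_le (p := 19) (by rw [natCard]; norm_num) ea_order conj_a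
    closure_eq (s := 8) hs1 rList hs centA {(ea, ec), (ea, ed)} ?_).trans Finset.card_le_two
  intro φ hb ⟨r, hr, ha⟩
  obtain ⟨k, hk, ek⟩ := centB (φ ec) (by rw [← hb, ← map_mul, ← map_mul, ec_comm])
  obtain ⟨n, hn, rfl⟩ := List.getElem_of_mem hr
  have hn3 : n < 3 := hn
  have hkill := List.all_eq_true.1 (List.all_eq_true.1 kill_ok n (List.mem_range.2 hn3)) k
    (List.mem_range.2 hk)
  simp only [killed, Bool.or_eq_true, Bool.and_eq_true, Bool.not_eq_true', Nat.blt_eq] at hkill
  rcases hkill with ⟨h0, hcd⟩ | ⟨⟨⟨hW, h8⟩, hp⟩, hmove⟩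
  · obtain rfl : n = 0 := Nat.eq_of_beq_eq_true h0
    have ha' : φ ea = ea := by rw [ha]; simp [rList]
    rw [ha', ek]
    rcases hcd with e | e <;> rw [Nat.eq_of_beq_eq_true e] <;> simp
  · exfalso
    set W := relTab.getD (Nat.shiftRight ((killTab.getD n []).getD k 0) 2) [] with hWdef
    have hmem : W ∈ relTab := by
      rw [hWdef, List.getD_eq_getElem _ _ hW]; exact List.getElem_mem _
    have hr' := List.all_eq_true.1 rel_ok W hmem
    simp only [Bool.and_eq_true, List.all_eq_true, Nat.blt_eq] at hr'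
    have h1 : El (subW aW bW (cW iC) W) = 1 := El_eq_one hr'.2
    have h2 : El (subW (powW' aW (rList.getD n 0)) bW (cW k) W) = 1 := by
      rw [← map_one φ, ← h1, subW, subW, El_flatMap, El_flatMap, Wv, Wv, map_list_prod, List.map_map]
      refine congrArg List.prod (List.map_congr_left fun x hx => ?_)
      have hx3 : x < 3 := hr'.1 x (List.mem_reverse.1 hx)
      interval_cases x
      · show El (powW' aW (rList.getD n 0)) = φ ea
        rw [El_powW', ha, List.getD_eq_getElem _ _ hn]
      · exact hb.symm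
      · exact ek.symm
    have hpt := π_El h8 ⟨_, hp⟩
    rw [h2, map_one, Equiv.Perm.one_apply] at hpt
    rw [← hpt, Nat.beq_refl] at hmove
    exact Bool.noConfusion hmove

theorem natCard_out : Nat.card (Cfsg.Out Cfsg.Spor.ON) = 2 := by
  have := finite
  refine le_antisymm upper ?_
  let T : MulAut Cfsg.Spor.ON :=
    MulEquiv.ofBijective tau ⟨tau_injective, Finite.injective_iff_surjective.1 tau_injective⟩
  have hne : (QuotientGroup.mk T : Cfsg.Out Cfsg.Spor.ON) ≠ 1 := by
    intro e
    obtain ⟨g, hg⟩ := (QuotientGroup.eq_one_iff _).1 e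
    have hT : ∀ x, g * x * g⁻¹ = tau x := fun x => DFunLike.congr_fun hg x
    have hga : g * ea = ea * g := mul_inv_eq_iff_eq_mul.1 ((hT ea).trans tau_a)
    obtain ⟨t, rfl⟩ := centA g hga
    have hgb : ea ^ t * eb = eb * ea ^ t := mul_inv_eq_iff_eq_mul.1 ((hT eb).trans tau_b)
    have h8 : (ea ^ t) ^ 8 = ea ^ t := by
      have e1 : eb * ea ^ t * eb⁻¹ = (ea ^ t) ^ 8 := by
        rw [← pow_mul, mul_comm, pow_mul, ← conj_a, conj_pow]
      rw [← e1, ← hgb, mul_inv_cancel_right]
    have h7 : (ea ^ t) ^ 7 = 1 := by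
      rw [pow_succ] at h8
      exact mul_eq_right.1 h8
    have hone : ea ^ t = 1 := by
      have h19 : (ea ^ t) ^ 19 = 1 := by
        rw [← pow_mul, mul_comm, pow_mul, ← ea_order, pow_orderOf_eq_one, one_pow]
      rw [← orderOf_eq_one_iff]
      exact Nat.eq_one_of_dvd_coprimes (by norm_num : Nat.Coprime 7 19)
        (orderOf_dvd_of_pow_eq_one h7) (orderOf_dvd_of_pow_eq_one h19)
    have hcd : ec = ed := by
      have := hT ec
      rw [hone, one_mul, inv_one, mul_one, tau_c] at this
      exact this
    have h := small_ok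
    simp only [Bool.and_eq_true, Bool.not_eq_true'] at h
    rw [same_of_eq letters.2.2.2.1 letters.2.2.2.2 hcd] at h
    exact Bool.noConfusion h.2
  have : Nontrivial (Cfsg.Out Cfsg.Spor.ON) := ⟨⟨_, 1, hne⟩⟩
  exact Finite.one_lt_card

end CfsgLib.Spor.ONOut
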